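import Cfsg.Agent.Lib.SuzukiBinary.Facts

/-!
Binary coset actions of a Suzuki group with an involution in the stabiliser.
-/

set_option autoImplicit false
set_option linter.unusedSectionVars false

namespace CfsgLib.SzBinary

open CfsgLib.Suzuki CfsgLib.PSL2Sub.Binary

variable {F : Type*} [Field F] [Fintype F] {m : ℕ}

local notation "Pt" => Projectivization F (Fin 4 → F)
set_option quotPrecheck false in
local notation "G" => ↥(Cfsg.Sz F m)

variable (h : SzHyp F m)
include h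

theorem nu_surj {c : F} (hc : c ≠ 0) : ∃ t : Fˣ, (t : F) * sig m (t : F) = c := by
  let f : Fˣ → Fˣ := fun t => t * Units.mk0 (sig m (t : F)) fun e => t.ne_zero (sig_eq_zero.1 e)
  have hf : Function.Injective f := fun i j e =>
    SuzukiSub.nu_injective h (by simpa [f] using congrArg Units.val e)
  obtain ⟨t, ht⟩ := Finite.injective_iff_surjective.1 hf (Units.mk0 c hc)
  exact ⟨t, by simpa [f] using congrArg Units.val ht⟩

theorem conj_tS_zero (t : Fˣ) (x : F) :
    ((dS h t)⁻¹)⁻¹ * tS h 0 x * (dS h t)⁻¹ = tS h 0 ((t : F) * sig m (t : F) * x) := by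
  rw [inv_inv, dS_conj, mul_zero]

theorem eq_top_of_all_conj {H : Subgroup G} {g : G} (hall : ∀ x : G, g⁻¹ * x * g ∈ H) : H = ⊤ :=
  (Subgroup.eq_top_iff' H).2 fun x => by simpa [mul_assoc] using hall (g * x * g⁻¹)

/-- With one involution the stabiliser contains the centre of its Sylow subgroup. -/
theorem zGroup_le_of_inv {H : Subgroup G} (hH : H ≠ ⊤) (hb : IsBinary H) {s : F} (hs : s ≠ 0)
    (hh : tS h 0 s ∈ H) : zGroup h ≤ H := by
  intro u hu
  obtain ⟨α, rfl⟩ := hu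
  by_contra hα
  let W : Set F := {x | tS h 0 x ∈ H}
  have hWadd : ∀ x y, x ∈ W → y ∈ W → x + y ∈ W := fun x y hx hy => by
    show tS h 0 (x + y) ∈ H
    rw [← SuzukiSub.tS_zero_mul]; exact mul_mem hx hy
  have hW0 : (0 : F) ∈ W := by show tS h 0 0 ∈ H; rw [tS_zero]; exact one_mem _
  -- the data for one element
  have hfix : ∀ γ : F, γ ∉ W → ∀ w ∈ fixInter H (tS h 0 γ), w ∈ tGroup h ∧
      (∀ β, w = tS h 0 β → ∀ z ∈ W, z ≠ 0 → β * z / γ ∈ W) := by
    intro γ hγ w hw
    have hγ0 : γ ≠ 0 := fun e => hγ (e ▸ hW0)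
    have hconj : ∀ z ∈ W, z ≠ 0 → ∃ t : Fˣ, (t : F) * sig m (t : F) * γ = z ∧
        ((dS h t)⁻¹)⁻¹ * tS h 0 γ * (dS h t)⁻¹ ∈ H := fun z hz hz0 => by
      obtain ⟨t, ht⟩ := nu_surj h (div_ne_zero hz0 hγ0)
      refine ⟨t, by rw [ht, div_mul_cancel₀ _ hγ0], ?_⟩
      rw [conj_tS_zero, ht, div_mul_cancel₀ _ hγ0]
      exact hz
    obtain ⟨t, -, htH⟩ := hconj s hh hs
    set S := fixInter H (tS h 0 γ) with hS
    set N := Subgroup.normalizer (S : Set G) with hN
    have hTN : tGroup h ≤ N := fun x hx => by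
      obtain ⟨a, b, rfl⟩ := hx
      refine le_normalizer_fixInter H _ ?_
      rw [Subgroup.mem_centralizer_singleton_iff]
      exact SuzukiSub.tS_central h a b γ
    have hNB : N ≤ borel F m := by
      by_contra hcon
      have htop := eq_top_of_tGroup_not_le_borel h hTN hcon
      haveI : S.Normal := Subgroup.normalizer_eq_top_iff.1 htop
      haveI := CfsgLib.Suzuki.isSimpleGroup h
      rcases (inferInstance : S.Normal).eq_bot_or_eq_top with e | e
      · have := self_mem_fixInter H (tS h 0 γ)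
        rw [← hS, e, Subgroup.mem_bot, tS_eq_one] at this
        exact hγ0 this.2
      · exact hH (eq_top_of_all_conj h fun x => (e ▸ Subgroup.mem_top x : x ∈ S) _ htH)
    have hST : ∀ x ∈ S, x ∈ tGroup h := by
      intro x hx
      obtain ⟨a, b, j, rfl⟩ := exists_tS_dS h
        (MulAction.mem_stabilizer_iff.1 (hNB (Subgroup.le_normalizer hx)))
      by_cases hj : j = 1
      · rw [hj, dS_one, mul_one]; exact tS_mem_tGroup h a b
      exfalso
      have hall : ∀ e : F, tS h 0 e ∈ S := by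
        intro e
        have h1 := one_add_mul_sig_ne_zero h hj
        set e₀ := e / (1 + (j : F) * sig m (j : F)) with he₀
        have hmem : tS h 0 e₀ * (tS h a b * dS h j) * (tS h 0 e₀)⁻¹ * (tS h a b * dS h j)⁻¹ ∈ S :=
          mul_mem ((Subgroup.mem_normalizer_iff.1 (hTN (tS_mem_tGroup h 0 e₀)) _).1 hx) (inv_mem hx)
        have hi : (tS h 0 e₀)⁻¹ = tS h 0 e₀ := by rw [tS_inv, mul_zero, add_zero]
        have hval : tS h 0 e₀ * (tS h a b * dS h j) * (tS h 0 e₀)⁻¹ * (tS h a b * dS h j)⁻¹ =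
            tS h 0 e := by
          calc tS h 0 e₀ * (tS h a b * dS h j) * (tS h 0 e₀)⁻¹ * (tS h a b * dS h j)⁻¹
              = tS h 0 e₀ *
                (tS h a b * (dS h j * tS h 0 e₀ * (dS h j)⁻¹) * (tS h a b)⁻¹) := by rw [hi]; group
            _ = tS h 0 e₀ * tS h 0 ((j : F) * sig m (j : F) * e₀) := by
              rw [dS_conj, mul_zero, SuzukiSub.tS_central, mul_inv_cancel_right]
            _ = tS h 0 e := by
              rw [SuzukiSub.tS_zero_mul]
              congr 1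
              rw [he₀]
              field_simp
        exact hval ▸ hmem
      refine hγ ?_
      have := hall (γ / ((t : F) * sig m (t : F))) _ htH
      rw [conj_tS_zero, mul_div_cancel₀ _
        (mul_ne_zero t.ne_zero fun e => t.ne_zero (sig_eq_zero.1 e))] at this
      exact this
    refine ⟨hST w hw, fun β hβ z hz hz0 => ?_⟩
    subst hβ
    obtain ⟨t, ht, ht'⟩ := hconj z hz hz0
    have := hw _ ht'
    rw [conj_tS_zero] at this
    show tS h 0 (β * z / γ) ∈ H
    rw [← ht, show β * ((t : F) * sig m (t : F) * γ) / γ = (t : F) * sig m (t : F) * β by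
      field_simp]
    exact this
  have hαs : α + s ∉ W := fun e => hα (by
    have := hWadd _ _ e hh
    show α ∈ W
    rwa [add_assoc, h.add_self, add_zero] at this)
  obtain ⟨w, hwa, hwb, hw⟩ := exists_mem_fixInter_of_binary hb
    (a := tS h 0 α) (b := tS h 0 (α + s)) (by
      rw [SuzukiSub.tS_zero_mul, add_comm α s, add_assoc, h.add_self, add_zero]
      exact hh)
  have hw1 : w ≠ 1 := fun e => hα (by
    rw [e, mul_one, inv_mem_iff] at hw
    exact hw)
  -- a central element of both intersections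
  obtain ⟨β, hβ0, hβa, hβb⟩ : ∃ β : F, β ≠ 0 ∧ tS h 0 β ∈ fixInter H (tS h 0 α) ∧
      tS h 0 β ∈ fixInter H (tS h 0 (α + s)) := by
    obtain ⟨a, b, rfl⟩ := (hfix α hα w hwa).1
    by_cases ha : a = 0
    · subst ha
      exact ⟨b, fun e => hw1 (by rw [e, tS_zero]), hwa, hwb⟩
    · refine ⟨sig m a * a, mul_ne_zero (fun e => ha (sig_eq_zero.1 e)) ha, ?_, ?_⟩
      · rw [← tS_sq h a b]; exact mul_mem hwa hwa
      · rw [← tS_sq h a b]; exact mul_mem hwb hwb
  have hk := (hfix α hα _ hβa).2 β rfl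
  have hk' := (hfix (α + s) hαs _ hβb).2 β rfl
  set d := β / α + β / (α + s) with hd
  have hα0 : α ≠ 0 := fun e => hα (by rw [e, tS_zero]; exact one_mem _)
  have hαs0 : α + s ≠ 0 := fun e => hαs (e ▸ hW0)
  have hdW : ∀ z ∈ W, d * z ∈ W := fun z hz => by
    rcases eq_or_ne z 0 with rfl | hz0
    · rwa [mul_zero]
    · have e : d * z = β * z / α + β * z / (α + s) := by rw [hd]; ring
      rw [e]
      exact hWadd _ _ (hk z hz hz0) (hk' z hz hz0)
  have hdpow : ∀ n : ℕ, ∀ z ∈ W, d ^ n * z ∈ W := by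
    intro n
    induction n with
    | zero => intro z hz; rwa [pow_zero, one_mul]
    | succ n ih => intro z hz; rw [pow_succ, mul_assoc]; exact ih _ (hdW z hz)
  have hd' : d = β * s / (α * (α + s)) := by
    rw [hd]
    field_simp
    linear_combination α * h.two_zero
  have hd0 : d ≠ 0 := by
    rw [hd']; exact div_ne_zero (mul_ne_zero hβ0 hs) (mul_ne_zero hα0 hαs0)
  have hinv : d ^ (Fintype.card F - 2) = d⁻¹ := by
    refine eq_inv_of_mul_eq_one_left ?_
    rw [← pow_succ, show Fintype.card F - 2 + 1 = Fintype.card F - 1 by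
      have := h.four_lt_card; omega,
      FiniteField.pow_card_sub_one_eq_one d hd0]
  apply hα
  have := hdpow (Fintype.card F - 2) _ (hk' s hh hs)
  rw [hinv, hd'] at this
  show α ∈ W
  convert this using 1
  field_simp

theorem dS_involution {j : Fˣ} (e : dS h j * dS h j = 1) : j = 1 := by
  rw [dS_mul, ← dS_one h] at e
  exact Units.ext (h.pow_sq_inj (by rw [sq, ← Units.val_mul, dS_injective h e, Units.val_one, one_pow]))

theorem mem_tGroup_of_sq {g : G} (hg : g ∈ borel F m) (h2 : g * g = 1) : g ∈ tGroup h := by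
  rcases borel_conj h (MulAction.mem_stabilizer_iff.1 hg) with e | ⟨x, k, hk, e⟩
  · exact e
  · refine absurd (dS_involution h ?_) hk
    calc dS h k * dS h k = x⁻¹ * (g * g) * x := by rw [e]; group
      _ = 1 := by rw [h2]; group

/-- A proper subgroup containing the centre fixes infinity. -/
theorem le_borel_of_zGroup {H : Subgroup G} (hH : H ≠ ⊤) (hZ : zGroup h ≤ H) : H ≤ borel F m := by
  have hq8 : 8 ≤ 2 ^ (2 * m + 1) := by
    calc 8 = 2 ^ 3 := rfl
      _ ≤ _ := Nat.pow_le_pow_right (by norm_num) (by have := h.one_le; omega)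
  have hdvd : 2 ^ (2 * m + 1) ∣ Nat.card H := card_zGroup h ▸ Subgroup.card_dvd_of_le hZ
  rcases SuzukiSub.classification h H hH with
    (⟨P, hP⟩ | ⟨U, hUc, hUo, hU⟩) | ⟨k, hk, hkm, hdiv, x, hx⟩
  · obtain ⟨x, hx⟩ := exists_map_tGroup h P
    rw [hx, map_conj_normalizer, normalizer_tGroup h] at hP
    have hz : tS h 0 1 ∈ zGroup h := ⟨1, rfl⟩
    have hz1 : tS h 0 1 ≠ 1 := fun e => one_ne_zero ((tS_eq_one h).1 e).2
    have h1 : x⁻¹ * tS h 0 1 * x ∈ tGroup h := mem_tGroup_of_sq h (mem_map_conj.1 (hP (hZ hz))) (by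
      calc x⁻¹ * tS h 0 1 * x * (x⁻¹ * tS h 0 1 * x) = x⁻¹ * (tS h 0 1 * tS h 0 1) * x := by group
        _ = 1 := by rw [zGroup_sq h hz]; group)
    have hxB : x ∈ borel F m := inv_mem_iff.1 (SuzukiSub.mem_borel_of_conj h (y := x⁻¹)
      (zGroup_le h hz) hz1 (by rwa [inv_inv]))
    intro g hg
    have := mul_mem (mul_mem hxB (mem_map_conj.1 (hP hg))) (inv_mem hxB)
    rwa [show x * (x⁻¹ * g * x) * x⁻¹ = g by group] at this
  · exfalso
    have h1 : 2 ^ (2 * m + 1) ∣ Nat.card (Subgroup.normalizer (U : Set G)) :=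
      hdvd.trans (Subgroup.card_dvd_of_le hU)
    rw [SuzukiSub.card_normalizer_eq U] at h1
    have hco : Nat.Coprime (2 ^ (2 * m + 1)) (Nat.card U) :=
      Nat.Coprime.pow_left _ (Nat.coprime_two_left.2 (SuzukiSub.odd_of_torusOrders h.one_le hUo))
    have h4 := Nat.le_of_dvd (by norm_num)
      ((hco.dvd_of_dvd_mul_right h1).trans (SuzukiSub.relIndex_normalizer h hUc hUo).1)
    omega
  · exfalso
    rw [← Subgroup.card_map_of_injective (f := (MulAut.conj x).toMonoidHom)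
      (MulAut.conj x).injective, hx, SuzukiSub.card_subfieldGroup h hk hdiv] at hdvd
    have hodd : ∀ n : ℕ, n % 2 = 1 → Nat.Coprime (2 ^ (2 * m + 1)) n := fun n hn =>
      Nat.Coprime.pow_left _ (Nat.coprime_two_left.2 (Nat.odd_iff.2 hn))
    have hse : (2 ^ (2 * k + 1)) % 2 = 0 := Nat.even_iff.1 ((Nat.even_pow' (by omega)).2 even_two)
    have hs1 : 1 ≤ 2 ^ (2 * k + 1) := Nat.one_le_two_pow
    have hs2e : (2 ^ (2 * k + 1)) ^ 2 % 2 = 0 := by rw [Nat.pow_mod, hse]
    have h2 := (hodd _ (by omega)).dvd_of_dvd_mul_right hdvd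
    have h3 := (hodd _ (by omega)).dvd_of_dvd_mul_right h2
    rw [← pow_mul, Nat.pow_dvd_pow_iff_le_right (by norm_num)] at h3
    obtain ⟨c, hc⟩ := hdiv
    rcases c with _ | _ | _ | c
    · omega
    · omega
    · omega
    · rw [Nat.mul_add, Nat.mul_add, Nat.mul_add, mul_one] at hc
      omega

/-- The conjugates of a torus element in the Borel subgroup. -/
theorem conj_dS_cases {g : G} {j : Fˣ} (hj : j ≠ 1) (hg : g * dS h j * g⁻¹ ∈ borel F m) :
    ∃ a b, ∃ i : Fˣ, (i = j ∨ i = j⁻¹) ∧ g * dS h j * g⁻¹ = tS h a b * dS h i := by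
  have hfix : dS h j • (g⁻¹ • (pInf : Pt)) = g⁻¹ • (pInf : Pt) := by
    rw [eq_inv_smul_iff, ← mul_smul, ← mul_smul]
    exact MulAction.mem_stabilizer_iff.1 hg
  have key : ∀ (g : G) (i : Fˣ), g • (pInf : Pt) = pInf →
      ∃ a b, g * dS h i * g⁻¹ = tS h a b * dS h i := by
    intro g i hgi
    obtain ⟨c, d, l, rfl⟩ := exists_tS_dS h hgi
    obtain ⟨a, b, e⟩ := SuzukiSub.tS_conj_form h c d 0 0 i
    refine ⟨a, b, ?_⟩
    rw [← e, tS_zero, one_mul]
    calc tS h c d * dS h l * dS h i * (tS h c d * dS h l)⁻¹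
        = tS h c d * (dS h l * dS h i) * (dS h l)⁻¹ * (tS h c d)⁻¹ := by group
      _ = _ := by rw [SuzukiSub.dS_comm]; group
  rcases dS_fixed' h hj (smul_ovoid (g⁻¹).2 pInf_mem) hfix with e | e
  · change g⁻¹ • (pInf : Pt) = pInf at e
    obtain ⟨a, b, e'⟩ := key g j (inv_smul_eq_iff.1 e).symm
    exact ⟨a, b, j, Or.inl rfl, e'⟩
  · change g⁻¹ • (pInf : Pt) = pAff m (0 : F) 0 at e
    obtain ⟨a, b, e'⟩ := key (g * wS h) j⁻¹ (by
      rw [mul_smul, wS_smul_pInf, ← e, smul_inv_smul])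
    refine ⟨a, b, j⁻¹, Or.inr rfl, ?_⟩
    rw [← e', ← wS_conj_dS, _root_.mul_inv_rev, wS_inv]
    simp only [mul_assoc]
    rw [← mul_assoc (wS h) (wS h), wS_mul_self, one_mul, ← mul_assoc (wS h) (wS h), wS_mul_self,
      one_mul]

/-- No torus element in the stabiliser. -/
theorem false_of_dS {H : Subgroup G} (hb : IsBinary H) (hB : H ≤ borel F m) {j : Fˣ} (hj : j ≠ 1)
    (hd : dS h j ∈ H) : False := by
  have hd1 : dS h j ≠ 1 := fun e => hj (dS_injective h (e.trans (dS_one h).symm))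
  have hord : 2 < orderOf (dS h j) := by
    have h0 := orderOf_pos (dS h j)
    have h1 : orderOf (dS h j) ≠ 1 := fun e => hd1 (orderOf_eq_one_iff.1 e)
    have h2 : orderOf (dS h j) ≠ 2 := fun e => hj (dS_involution h (by
      have := pow_orderOf_eq_one (dS h j)
      rwa [e, pow_two] at this))
    omega
  obtain ⟨u, v, huv⟩ := SzChar.exists_product_conj h hord hd1
  set d := dS h j with hddef
  set b := u * d * u⁻¹ with hbdef
  set a := v * d * v⁻¹ with hadef
  have haB : a ∉ borel F m := by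
    intro ha
    have hb' : b ∈ borel F m := by
      have := mul_mem (dS_mem_borel h j) (inv_mem ha)
      rwa [← hddef, huv, mul_inv_cancel_right] at this
    obtain ⟨c₁, e₁, i₁, hi₁, h1⟩ := conj_dS_cases h hj (g := u) hb'
    obtain ⟨c₂, e₂, i₂, hi₂, h2⟩ := conj_dS_cases h hj (g := v) ha
    obtain ⟨c, e, h3⟩ := SuzukiSub.mul_form h c₁ e₁ c₂ e₂ i₁ i₂
    rw [← h1, ← h2, ← hbdef, ← hadef, ← huv] at h3
    obtain ⟨-, -, hprod⟩ := tS_dS_injective h (a := 0) (b := 0) (k := j)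
      (show tS h 0 0 * dS h j = tS h c e * dS h (i₁ * i₂) by rw [tS_zero, one_mul]; exact h3)
    have hcube : j * j * j = 1 → False := fun e3 => by
      have hdd : orderOf d ∣ 3 := orderOf_dvd_of_pow_eq_one (by
        rw [hddef, pow_succ, pow_two, dS_mul, dS_mul, e3, dS_one])
      rcases (Nat.dvd_prime Nat.prime_three).1 hdd with o | o
      · exact hd1 (orderOf_eq_one_iff.1 o)
      · exact SuzukiSub.not_three h (o ▸ orderOf_dvd_natCard d)
    rcases hi₁ with rfl | rfl <;> rcases hi₂ with rfl | rfl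
    · exact hj (mul_left_cancel (hprod.symm.trans (mul_one _).symm))
    · exact hj (by rwa [mul_inv_cancel] at hprod)
    · exact hj (by rwa [inv_mul_cancel] at hprod)
    · exact hcube (by
        calc j * j * j = j * j * (j⁻¹ * j⁻¹) := by rw [← hprod]
          _ = 1 := by group)
  have hfixall : ∀ x g : G, x ∈ H → (g * x * g⁻¹) • (g • (pInf : Pt)) = g • (pInf : Pt) :=
    fun x g hx => by
      rw [mul_smul, inv_smul_smul, mul_smul, MulAction.mem_stabilizer_iff.1 (hB hx)]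
  have hwd : ∀ g : G, (g * wS h)⁻¹ * (g * d * g⁻¹) * (g * wS h) ∈ H := fun g => by
    rw [show (g * wS h)⁻¹ * (g * d * g⁻¹) * (g * wS h) = (wS h)⁻¹ * d * wS h by group, wS_inv,
      hddef, wS_conj_dS, ← dS_inv]
    exact inv_mem hd
  refine false_of_pair hb (a := a) (b := b) (huv ▸ hd) (fun e => haB (hB e))
    {v, v * wS h} {u, u * wS h} ?_ ?_ ?_
  · rintro g (e | e) <;> rw [e]
    · rw [hadef, show v⁻¹ * (v * d * v⁻¹) * v = d by group]; exact hd
    · exact hwd v
  · rintro g (e | e) <;> rw [e]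
    · rw [hbdef, show u⁻¹ * (u * d * u⁻¹) * u = d by group]; exact hd
    · exact hwd u
  intro w hA hB'
  by_contra hw1
  have fixw : ∀ g : G, g⁻¹ * w * g ∈ H → w • (g • (pInf : Pt)) = g • (pInf : Pt) := fun g hg =>
    conj_fix.1 (MulAction.mem_stabilizer_iff.1 (hB hg))
  have fv := fixw _ (hA v (Or.inl rfl))
  have fv' := fixw _ (hA _ (Or.inr rfl))
  have fu := fixw _ (hB' u (Or.inl rfl))
  have fu' := fixw _ (hB' _ (Or.inr rfl))
  have hne : ∀ g : G, g • (pInf : Pt) ≠ (g * wS h) • (pInf : Pt) := fun g e => by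
    rw [mul_smul, wS_smul_pInf] at e
    exact pAff_ne_pInf 0 0 (MulAction.injective g e).symm
  have hov : ∀ g : G, g • (pInf : Pt) ∈ Cfsg.suzukiOvoid F m := fun g => smul_ovoid g.2 pInf_mem
  have hfd : ∀ g : G, (g * d * g⁻¹) • (g • (pInf : Pt)) = g • (pInf : Pt) ∧
      (g * d * g⁻¹) • ((g * wS h) • (pInf : Pt)) = (g * wS h) • (pInf : Pt) := fun g =>
    ⟨hfixall d g hd, conj_fix.1 (MulAction.mem_stabilizer_iff.1 (hB (hwd g)))⟩
  have hin : ∀ g : G, w • (g • (pInf : Pt)) = g • (pInf : Pt) →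
      g • (pInf : Pt) = v • (pInf : Pt) ∨ g • (pInf : Pt) = (v * wS h) • (pInf : Pt) := fun g hg => by
    by_contra hc
    push Not at hc
    exact hw1 (eq_one_of_three h (hov v) (hov _) (hov g) (hne v) hc.2.symm hc.1.symm fv fv' hg)
  have hafix : ∀ g : G, w • (g • (pInf : Pt)) = g • (pInf : Pt) →
      a • (g • (pInf : Pt)) = g • (pInf : Pt) := fun g hg => by
    rcases hin g hg with e | e <;> rw [e]
    exacts [(hfd v).1, (hfd v).2]
  have hdfix : ∀ g : G, w • (g • (pInf : Pt)) = g • (pInf : Pt) →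
      b • (g • (pInf : Pt)) = g • (pInf : Pt) →
      g • (pInf : Pt) = pInf ∨ g • (pInf : Pt) = pAff m (0 : F) 0 := fun g hg hbg =>
    dS_fixed' h hj (hov g) (by
      show d • (g • (pInf : Pt)) = g • (pInf : Pt)
      rw [huv, mul_smul, hafix g hg, hbg])
  apply haB
  rw [MulAction.mem_stabilizer_iff]
  rcases hdfix u fu (hfd u).1 with e | e
  · exact e ▸ hafix u fu
  rcases hdfix _ fu' (hfd u).2 with e' | e'
  · exact e' ▸ hafix _ fu'
  · exact absurd (e.trans e'.symm) (hne u)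

/-- The stabiliser consists of translations. -/
theorem le_tGroup_of_zGroup {H : Subgroup G} (hb : IsBinary H) (hH : H ≠ ⊤) (hZ : zGroup h ≤ H) :
    H ≤ tGroup h := by
  have hB := le_borel_of_zGroup h hH hZ
  intro g hg
  obtain ⟨a, b, j, rfl⟩ := exists_tS_dS h (MulAction.mem_stabilizer_iff.1 (hB hg))
  by_contra hne
  have hj : j ≠ 1 := fun e => hne (by rw [e, dS_one, mul_one]; exact tS_mem_tGroup h a b)
  obtain ⟨u, huT, hu⟩ := twist_surj (T := tGroup h) (d := dS h j)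
    (fun x hx => SuzukiSub.borel_normalizes h (dS_mem_borel h j) hx)
    (fun x hx e => by
      obtain ⟨k, rfl⟩ := centralizer_dS h hj e.symm
      obtain ⟨c, e', he⟩ := hx
      obtain ⟨-, -, hk⟩ := tS_dS_injective h (a := 0) (b := 0) (k := k) (k' := 1)
        (show tS h 0 0 * dS h k = tS h c e' * dS h 1 by
          rw [tS_zero, one_mul, dS_one, mul_one]; exact he)
      rw [hk]
      exact map_one _)
    (tS_mem_tGroup h a b)
  have hdH : dS h j ∈ H.map (MulAut.conj u⁻¹).toMonoidHom := by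
    rw [mem_conj_iff, inv_inv, hu]; exact hg
  refine false_of_dS h (isBinary_map_conj hb u⁻¹) ?_ hj hdH
  intro x hx
  rw [mem_conj_iff, inv_inv] at hx
  have huB := tGroup_le_borel h huT
  have := mul_mem (mul_mem (inv_mem huB) (hB hx)) huB
  rwa [show u⁻¹ * (u * x * u⁻¹) * u = x by group] at this

/-- A stabiliser in the translations is central. -/
theorem le_zGroup_of_tGroup {H : Subgroup G} (hb : IsBinary H) (hT : H ≤ tGroup h)
    (hZ : zGroup h ≤ H) : H ≤ zGroup h := by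
  intro c hc
  by_contra hcZ
  obtain ⟨p, r, hpr⟩ := hT hc
  have hc2 : c * c ≠ 1 := fun e => hcZ (mem_zGroup_of_sq h (hT hc) e)
  have hco : orderOf c = 4 := by
    refine orderOf_eq_prime_pow (p := 2) (n := 1) ?_ ?_
    · rw [pow_one, pow_two]; exact hc2
    · rw [show (2 : ℕ) ^ (1 + 1) = 2 * 2 from rfl, pow_mul, pow_two, pow_two, hpr, tS_sq,
        SuzukiSub.tS_zero_mul, h.add_self, tS_zero]
  obtain ⟨a₀, b₀, ha₀, hb₀, hi, hpair⟩ := exists_four_pair h
  obtain ⟨x, hx⟩ := SuzukiSub.exists_conj_mem_tGroup h (g := b₀ * a₀) ⟨1, by rw [hi, pow_one]⟩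
  set a := x⁻¹ * a₀ * x with hadef
  set b := x⁻¹ * b₀ * x with hbdef
  have hba : b * a ∈ zGroup h := by
    rw [hadef, hbdef, show x⁻¹ * b₀ * x * (x⁻¹ * a₀ * x) = x⁻¹ * (b₀ * a₀) * x by group]
    refine mem_zGroup_of_sq h hx ?_
    have h1 := pow_orderOf_eq_one (b₀ * a₀)
    rw [hi, pow_two] at h1
    calc x⁻¹ * (b₀ * a₀) * x * (x⁻¹ * (b₀ * a₀) * x) =
        x⁻¹ * (b₀ * a₀ * (b₀ * a₀)) * x := by group
      _ = 1 := by rw [h1]; group
  have hpair' : ∀ y : G, y⁻¹ * a * y ∈ tGroup h → y⁻¹ * b * y ∈ tGroup h → False := fun y h1 h2 =>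
    hpair (x * y) (by rw [hadef] at h1; simpa [mul_assoc] using h1)
      (by rw [hbdef] at h2; simpa [mul_assoc] using h2)
  have hord : orderOf a = 4 ∧ orderOf b = 4 := by
    constructor
    · rw [hadef, show x⁻¹ * a₀ * x = MulAut.conj x⁻¹ a₀ by simp, MulEquiv.orderOf_eq, ha₀]
    · rw [hbdef, show x⁻¹ * b₀ * x = MulAut.conj x⁻¹ b₀ by simp, MulEquiv.orderOf_eq, hb₀]
  have haH : a ∉ H := fun e => hpair' 1 (by simpa using hT e) (by
    have := mul_mem (hT (hZ hba)) (inv_mem (hT e))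
    rw [mul_inv_cancel_right] at this
    simpa using this)
  obtain ⟨g₁, hg₁⟩ := isConj_pm_of_four h hco hord.1
  obtain ⟨g₂, hg₂⟩ := isConj_pm_of_four h hco hord.2
  have hmem : ∀ y : G, y = c ∨ y = c⁻¹ → y ∈ H := fun y hy => by
    rcases hy with rfl | rfl
    exacts [hc, inv_mem hc]
  refine false_of_pair hb (hZ hba) haH {g₁} {g₂} ?_ ?_ ?_
  · rintro g rfl; exact hmem _ hg₁
  · rintro g rfl; exact hmem _ hg₂
  intro w h1 h2
  have h1' := hT (h1 g₁ rfl)
  have h2' := hT (h2 g₂ rfl)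
  by_contra hw1
  have hfix : (g₁⁻¹ * w * g₁) • ((g₁⁻¹ * g₂) • (pInf : Pt)) = (g₁⁻¹ * g₂) • (pInf : Pt) := by
    rw [← conj_fix, show (g₁⁻¹ * g₂)⁻¹ * (g₁⁻¹ * w * g₁) * (g₁⁻¹ * g₂) = g₂⁻¹ * w * g₂ by group]
    exact fix_pInf_of_mem_tGroup h h2'
  have hne : g₁⁻¹ * w * g₁ ≠ 1 := fun e => hw1 (by
    calc w = g₁ * (g₁⁻¹ * w * g₁) * g₁⁻¹ := by group
      _ = 1 := by rw [e]; group)
  have hp := tS_fixed h h1' hne (smul_ovoid (g₁⁻¹ * g₂).2 pInf_mem) hfix
  have hgB : g₁⁻¹ * g₂ ∈ borel F m := MulAction.mem_stabilizer_iff.2 hp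
  refine hpair' g₁ (hT (hmem _ hg₁)) ?_
  have := SuzukiSub.borel_normalizes h hgB (hT (hmem _ hg₂))
  rwa [show g₁⁻¹ * g₂ * (g₂⁻¹ * b * g₂) * (g₁⁻¹ * g₂)⁻¹ = g₁⁻¹ * b * g₁ by group] at this

/-- With an involution the stabiliser is the centre of a Sylow subgroup. -/
theorem eq_conj_zGroup {H : Subgroup G} (hb : IsBinary H) (hH : H ≠ ⊤) {i : G} (hiH : i ∈ H)
    (hi : orderOf i = 2) : ∃ x : G, H = (zGroup h).map (MulAut.conj x).toMonoidHom := by
  obtain ⟨x, hx⟩ := SuzukiSub.exists_conj_mem_tGroup h (g := i) ⟨1, by rw [hi, pow_one]⟩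
  obtain ⟨s, hs, his⟩ := SuzukiSub.involution_tS h hx (by
    rw [show x⁻¹ * i * x = MulAut.conj x⁻¹ i by simp, MulEquiv.orderOf_eq, hi])
  set K := H.map (MulAut.conj x⁻¹).toMonoidHom with hK
  have hKH : H = K.map (MulAut.conj x).toMonoidHom := by
    rw [hK, SuzukiSub.map_conj_map_conj, mul_inv_cancel, map_one]
    exact (Subgroup.map_id H).symm
  have hKtop : K ≠ ⊤ := fun e => hH (by
    rw [hKH, e]
    exact Subgroup.map_top_of_surjective _ (MulAut.conj x).surjective)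
  have hKb : IsBinary K := isBinary_map_conj hb x⁻¹
  have hsK : tS h 0 s ∈ K := by
    rw [hK, mem_conj_iff, ← his, inv_inv, show x * (x⁻¹ * i * x) * x⁻¹ = i by group]
    exact hiH
  have hZ := zGroup_le_of_inv h hKtop hKb hs hsK
  refine ⟨x, ?_⟩
  rw [hKH, le_antisymm (le_zGroup_of_tGroup h hKb (le_tGroup_of_zGroup h hKb hKtop hZ) hZ) hZ]

end CfsgLib.SzBinary
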