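import Cfsg.Agent.Lib.SuzukiChar.Ore
import Cfsg.Agent.Lib.SuzukiSub.Basic

/-!
An element of odd order of a Suzuki group as a product of two conjugates outside its torus.
-/

set_option autoImplicit false
set_option linter.style.haveILetI false

open scoped ComplexConjugate

namespace CfsgLib.SzBinary

open Cfsg CfsgLib CfsgLib.Suzuki CfsgLib.SzChar

/-- The contribution of characters of one degree to the cubic class sum. -/
theorem norm_cube_le {G : Type*} [Group G] {s : Finset (IrrCharacter G)} {x : G} {D B : ℝ}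
    (hD : ∀ χ ∈ s, (χ : G → ℂ) 1 = (D : ℂ)) (hD0 : 0 < D) (hB : ∀ χ ∈ s, ‖(χ : G → ℂ) x‖ ≤ B) :
    ‖∑ χ ∈ s, (χ : G → ℂ) x * conj ((χ : G → ℂ) x) * (χ : G → ℂ) x / (χ : G → ℂ) 1‖ ≤
      (∑ χ ∈ s, ‖(χ : G → ℂ) x‖ ^ 2) * B / D := by
  refine (norm_sum_le _ _).trans ?_
  rw [Finset.sum_mul, Finset.sum_div]
  refine Finset.sum_le_sum fun χ hχ => ?_
  rw [norm_div, norm_mul, norm_mul, hD χ hχ, Complex.norm_conj, Complex.norm_real,
    Real.norm_of_nonneg hD0.le, ← pow_two]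
  exact div_le_div_of_nonneg_right (mul_le_mul_of_nonneg_left (hB χ hχ) (sq_nonneg _)) hD0.le

theorem lower_of_split {S T : ℂ} {a b δ : ℝ} (e : S = (a : ℂ) + T) (hT : ‖T‖ ≤ b)
    (hab : δ + b ≤ a) : δ ≤ ‖S‖ := by
  have h1 : ‖((a : ℂ))‖ - ‖T‖ ≤ ‖S‖ := by
    have := norm_sub_norm_le ((a : ℂ)) (-T)
    rwa [norm_neg, sub_neg_eq_add, ← e] at this
  rw [Complex.norm_real, Real.norm_eq_abs] at h1
  linarith [le_abs_self a]

variable {F : Type*} [Field F] [Fintype F] {m : ℕ} (h : SzHyp F m)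
include h

local notation "G" => Cfsg.Sz F m
local notation "qq" => 2 ^ (2 * m + 1)
local notation "hh" => 2 ^ m

variable [Fintype (Cfsg.Sz F m)] {q H : ℕ} {St : IrrCharacter (Cfsg.Sz F m)}
  {Qs F₁ R₀ : Finset (IrrCharacter (Cfsg.Sz F m))} {w w' : IrrCharacter (Cfsg.Sz F m)}

/-- The cubic class sum is not small. -/
theorem cube_sum_lower (hq : qq = q) (hH : hh = H) (t : SzTable h q H St Qs F₁ R₀ w w') {x : G}
    (hx : x ≠ 1) (hodd : ¬ ∃ i, orderOf x = 2 ^ i) :
    1 / (q : ℝ) ≤ ‖∑ χ : IrrCharacter G,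
      (χ : G → ℂ) x * conj ((χ : G → ℂ) x) * (χ : G → ℂ) x / (χ : G → ℂ) 1‖ := by
  classical
  have hqh : q = 2 * H ^ 2 := by rw [← hq, ← hH]; exact (borelData h).q_eq
  have hH2 : 2 ≤ H := by rw [← hH]; exact Nat.le_self_pow (by have := h.one_le; omega) 2
  have hqR : (q : ℝ) = 2 * (H : ℝ) ^ 2 := by exact_mod_cast hqh
  have hHR : (2 : ℝ) ≤ H := by exact_mod_cast hH2
  have hq8 : (8 : ℝ) ≤ q := by rw [hqR]; nlinarith
  have hq8' : 8 ≤ q := by exact_mod_cast hq8
  have hle : 2 * H ≤ q + 1 := by rw [hqh]; have := Nat.le_self_pow two_ne_zero H; omega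
  have hq18 : 1 / (q : ℝ) ≤ 1 / 8 := div_le_div_of_nonneg_left zero_le_one (by norm_num) hq8
  have hq64 : 1 / (q : ℝ) ^ 2 ≤ 1 / 64 :=
    div_le_div_of_nonneg_left (by norm_num) (by norm_num) (by nlinarith only [hq8])
  have hw7 : 2 / (((q : ℝ) - 1) * H) ≤ 2 / 14 :=
    div_le_div_of_nonneg_left (by norm_num) (by norm_num) (by nlinarith only [hq8, hHR])
  have hpos : (0 : ℝ) ≤ 2 / (((q : ℝ) - 1) * H) :=
    div_nonneg (by norm_num) (mul_nonneg (by linarith) (by linarith))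
  have h2pow : ∀ {y : G}, IsConj y x → (∃ i, orderOf y = 2 ^ i) → False := by
    intro y hy ⟨i, hi⟩
    obtain ⟨c, rfl⟩ := isConj_iff.1 hy
    exact hodd ⟨i, by rwa [show c * y * c⁻¹ = MulAut.conj c y from rfl, MulEquiv.orderOf_eq]⟩
  have hu := SuzukiSub.two_pow_of_mem_tGroup h (tS_mem_tGroup h (1 : F) 0)
  rcases element_cases h hq hH hx with e | (e | e) | ⟨e, eC⟩ | ⟨e, eC⟩ | ⟨e, eC⟩
  · exact (h2pow e (SuzukiSub.two_pow_of_mem_tGroup h (tS_mem_tGroup h 0 1))).elim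
  · exact (h2pow e hu).elim
  · obtain ⟨i, hi⟩ := hu
    exact (h2pow e ⟨i, by rw [orderOf_inv, hi]⟩).elim
  · obtain ⟨hF, hR, hw, hw', -, hS⟩ := values_torus h hq hH t hx e
    have hn := norm_split h t x
    rw [hS, hw, hw', Finset.sum_eq_zero (s := F₁) (fun χ hχ => by rw [hF χ hχ]; simp),
      Finset.sum_eq_zero (s := R₀) (fun χ hχ => by rw [hR χ hχ]; simp), eC,
      Nat.cast_sub (by omega)] at hn
    simp only [norm_one, norm_zero, one_pow, Nat.cast_one, ne_eq, OfNat.ofNat_ne_zero,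
      not_false_eq_true, zero_pow, add_zero] at hn
    have hb := norm_cube_le (s := Qs) (x := x) (D := (q : ℝ) ^ 2 + 1) (B := q)
      (fun χ hχ => by rw [(t.Qs_val χ hχ).1]; push_cast; rfl) (by positivity)
      (fun χ _ => norm_le_q h hq hH χ hx)
    rw [show ∑ χ ∈ Qs, ‖(χ : G → ℂ) x‖ ^ 2 = (q : ℝ) - 3 by linarith] at hb
    refine lower_of_split (a := 1 + 1 / (q : ℝ) ^ 2) ?_ hb ?_
    · rw [t.split, hS, hw, hw', Finset.sum_eq_zero (s := F₁) (fun χ hχ => by rw [hF χ hχ]; simp),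
        Finset.sum_eq_zero (s := R₀) (fun χ hχ => by rw [hR χ hχ]; simp), t.St_val.1]
      simp only [Char.principalIrr_apply, map_one, mul_one, one_mul, zero_mul, zero_div, add_zero,
        div_one]
      push_cast
      ring
    · have e1 : ((q : ℝ) - 3) * q / ((q : ℝ) ^ 2 + 1) ≤ 1 - 1 / q := by
        rw [div_le_iff₀ (by positivity), one_sub_div (by positivity), div_mul_eq_mul_div,
          le_div_iff₀ (by positivity)]
        nlinarith only [hq8]
      have : (0 : ℝ) ≤ 1 / (q : ℝ) ^ 2 := by positivity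
      linarith
  · obtain ⟨hQ, hR, -, hw, hw', hS⟩ := values_large h hq hH t hx e
    have hn := norm_split h t x
    rw [hS, hw, hw', Finset.sum_eq_zero (s := Qs) (fun χ hχ => by rw [hQ χ hχ]; simp),
      Finset.sum_eq_zero (s := R₀) (fun χ hχ => by rw [hR χ hχ]; simp), eC] at hn
    simp only [norm_one, norm_neg, one_pow, add_zero] at hn
    push_cast at hn
    set D : ℝ := ((q : ℝ) - 1) * ((q : ℝ) + 1 - 2 * H) with hD
    have hD0 : 0 < D := mul_pos (by linarith) (by nlinarith)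
    have hB : ∀ χ ∈ F₁, ‖(χ : G → ℂ) x‖ ≤ 2 * (H : ℝ) - 1 := by
      intro χ hχ
      refine (sq_le_sq₀ (norm_nonneg _) (by linarith)).1 (le_trans (Finset.single_le_sum
        (f := fun χ : IrrCharacter G => ‖(χ : G → ℂ) x‖ ^ 2) (fun _ _ => sq_nonneg _) hχ) ?_)
      nlinarith only [hn, hqR, hHR]
    have hb := norm_cube_le (x := x) (fun χ hχ => by
      rw [(t.F₁_val χ hχ).1, hD]; push_cast; rfl) hD0 hB
    rw [show ∑ χ ∈ F₁, ‖(χ : G → ℂ) x‖ ^ 2 = (q : ℝ) + 2 * H - 3 by linarith] at hb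
    refine lower_of_split (a := 1 + -1 / (q : ℝ) ^ 2 + 2 / (((q : ℝ) - 1) * H)) ?_ hb ?_
    · rw [t.split, hS, hw, hw', Finset.sum_eq_zero (s := Qs) (fun χ hχ => by rw [hQ χ hχ]; simp),
        Finset.sum_eq_zero (s := R₀) (fun χ hχ => by rw [hR χ hχ]; simp), t.St_val.1, t.w_val.1,
        t.w'_val.1]
      simp only [Char.principalIrr_apply, map_one, map_neg, mul_one, one_mul, add_zero, div_one]
      push_cast
      ring
    · have hrat : ((q : ℝ) + 2 * H - 3) * (2 * H - 1) / D ≤ 4 / 5 := by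
        rw [div_le_iff₀ hD0, hD, hqR]
        nlinarith [mul_nonneg (sub_nonneg.2 hHR) (sub_nonneg.2 hHR),
          mul_nonneg (mul_nonneg (sub_nonneg.2 hHR) (sub_nonneg.2 hHR)) (sub_nonneg.2 hHR),
          pow_nonneg (sub_nonneg.2 hHR) 4]
      rw [neg_div]
      linarith
  · obtain ⟨hQ, hF, -, hw, hw', hS⟩ := values_small h hq hH t hx e
    have hn := norm_split h t x
    rw [hS, hw, hw', Finset.sum_eq_zero (s := Qs) (fun χ hχ => by rw [hQ χ hχ]; simp),
      Finset.sum_eq_zero (s := F₁) (fun χ hχ => by rw [hF χ hχ]; simp), eC, Nat.cast_sub hle] at hn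
    simp only [norm_one, norm_neg, one_pow, add_zero] at hn
    push_cast at hn
    set D : ℝ := ((q : ℝ) - 1) * ((q : ℝ) + 2 * H + 1) with hD
    have hD0 : 0 < D := mul_pos (by linarith) (by linarith)
    have hB : ∀ χ ∈ R₀, ‖(χ : G → ℂ) x‖ ≤ 2 * (H : ℝ) + 1 := by
      intro χ hχ
      refine (sq_le_sq₀ (norm_nonneg _) (by linarith)).1 (le_trans (Finset.single_le_sum
        (f := fun χ : IrrCharacter G => ‖(χ : G → ℂ) x‖ ^ 2) (fun _ _ => sq_nonneg _) hχ) ?_)
      nlinarith only [hn, hqR, hHR]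
    have hb := norm_cube_le (x := x) (fun χ hχ => by
      rw [(t.R₀_val χ hχ).1, hD]; push_cast; rfl) hD0 hB
    rw [show ∑ χ ∈ R₀, ‖(χ : G → ℂ) x‖ ^ 2 = (q : ℝ) - 2 * H - 3 by linarith] at hb
    refine lower_of_split (a := 1 + -1 / (q : ℝ) ^ 2 - 2 / (((q : ℝ) - 1) * H)) ?_ hb ?_
    · rw [t.split, hS, hw, hw', Finset.sum_eq_zero (s := Qs) (fun χ hχ => by rw [hQ χ hχ]; simp),
        Finset.sum_eq_zero (s := F₁) (fun χ hχ => by rw [hF χ hχ]; simp), t.St_val.1, t.w_val.1,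
        t.w'_val.1]
      simp only [Char.principalIrr_apply, map_one, map_neg, mul_one, one_mul, add_zero, div_one]
      push_cast
      ring
    · have hrat : ((q : ℝ) - 2 * H - 3) * (2 * H + 1) / D ≤ 1 / 2 := by
        rw [div_le_iff₀ hD0, hD, hqR]
        nlinarith [mul_nonneg (sub_nonneg.2 hHR) (sub_nonneg.2 hHR),
          mul_nonneg (mul_nonneg (sub_nonneg.2 hHR) (sub_nonneg.2 hHR)) (sub_nonneg.2 hHR),
          pow_nonneg (sub_nonneg.2 hHR) 4]
      rw [neg_div]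
      linarith

omit [Fintype (Cfsg.Sz F m)] in
/-- An element of odd order is a product of two of its conjugates outside its centraliser. -/
theorem exists_product_outside {x : G} (hx : x ≠ 1) (hodd : ¬ ∃ i, orderOf x = 2 ^ i)
    {A : Subgroup G} (hA : Subgroup.centralizer ({x} : Set G) = A) (hcyc : IsCyclic A)
    (hAo : Nat.card A ∈ SuzukiSub.torusOrders m)
    (hAti : ∀ y ∈ A, y ≠ 1 → Subgroup.centralizer ({y} : Set G) = A) :
    ∃ u v : G, x = (u * x * u⁻¹) * (v * x * v⁻¹) ∧ v * x * v⁻¹ ∉ A := by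
  classical
  letI : Fintype G := Fintype.ofFinite _
  obtain ⟨q, hq⟩ : ∃ q : ℕ, qq = q := ⟨_, rfl⟩
  obtain ⟨H, hH⟩ : ∃ H : ℕ, hh = H := ⟨_, rfl⟩
  obtain ⟨St, Qs, F₁, R₀, w, w', t⟩ := exists_table h hq hH
  have hlow := cube_sum_lower h hq hH t hx hodd
  by_contra hall
  push Not at hall
  set N := Subgroup.normalizer (A : Set G) with hN
  have hxA : x ∈ A := by
    rw [← hA, Subgroup.mem_centralizer_singleton_iff]
  have norm_of : ∀ v : G, v * x * v⁻¹ ∈ A → v ∈ N := by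
    intro v hv
    have h2 := hAti _ hv (by rwa [Ne, conj_eq_one_iff])
    rw [hN, Subgroup.mem_normalizer_iff]
    intro n
    conv_lhs => rw [← hA]
    conv_rhs => rw [← h2]
    rw [Subgroup.mem_centralizer_singleton_iff, Subgroup.mem_centralizer_singleton_iff]
    constructor
    · intro c
      calc v * n * v⁻¹ * (v * x * v⁻¹) = v * (n * x) * v⁻¹ := by group
        _ = _ := by rw [c]; group
    · intro c
      calc n * x = v⁻¹ * (v * n * v⁻¹ * (v * x * v⁻¹)) * v := by group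
        _ = v⁻¹ * ((v * x * v⁻¹) * (v * n * v⁻¹)) * v := by rw [c]
        _ = _ := by group
  set s := Finset.univ.filter fun a : G => IsConj x (a * x * a⁻¹ * x) with hs
  have hsub : ∀ a ∈ s, a ∈ N := by
    intro a ha
    obtain ⟨z, hz⟩ := isConj_iff.1 (Finset.mem_filter.1 ha).2
    have hprod : x = (z⁻¹ * a * x * (z⁻¹ * a)⁻¹) * (z⁻¹ * x * z⁻¹⁻¹) := by
      calc x = z⁻¹ * (z * x * z⁻¹) * z := by group
        _ = z⁻¹ * (a * x * a⁻¹ * x) * z := by rw [hz]
        _ = _ := by group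
    have hv := hall _ _ hprod
    have hu : z⁻¹ * a * x * (z⁻¹ * a)⁻¹ ∈ A := by
      rw [eq_mul_inv_of_mul_eq hprod.symm]
      exact mul_mem hxA (inv_mem hv)
    have := mul_mem (inv_mem (norm_of _ hv)) (norm_of _ hu)
    rwa [inv_inv, mul_inv_cancel_left] at this
  have hcount : s.card ≤ 4 * Nat.card A := by
    have h1 : s.card ≤ Nat.card N := by
      rw [Nat.card_eq_fintype_card (α := N), Fintype.card_subtype]
      exact Finset.card_le_card fun a ha => Finset.mem_filter.2 ⟨Finset.mem_univ _, hsub a ha⟩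
    rw [SuzukiSub.card_normalizer_eq A] at h1
    exact h1.trans (Nat.mul_le_mul_right _
      (Nat.le_of_dvd (by norm_num) (SuzukiSub.relIndex_normalizer h hcyc hAo).1))
  have hid := Blk83.sum_conj_mul_div x x
  rw [hA, ← hs] at hid
  have hnorm := congrArg norm hid
  rw [norm_mul, norm_mul, Complex.norm_natCast, Complex.norm_natCast, Complex.norm_natCast]
    at hnorm
  have hAle : Nat.card A ≤ 2 * q := by
    have hHq : 2 * H + 2 ≤ q := by
      have : q = 2 * H ^ 2 := by rw [← hq, ← hH]; exact (borelData h).q_eq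
      have hH2 : 2 ≤ H := by rw [← hH]; exact Nat.le_self_pow (by have := h.one_le; omega) 2
      rw [this]; nlinarith
    have e : 2 ^ (m + 1) = 2 * H := by rw [← hH, pow_succ']
    rcases hAo with e' | e' | e' <;> rw [e'] <;> omega
  have hq8 : 8 ≤ q := hq ▸ (borelData h).two_le
  have hG : Fintype.card G = q ^ 2 * (q ^ 2 + 1) * (q - 1) := by
    rw [← Nat.card_eq_fintype_card, CfsgLib.Suzuki.card h, hq]
  have hqR : (8 : ℝ) ≤ q := by exact_mod_cast hq8
  have h1 : (Fintype.card G : ℝ) * (1 / q) ≤ (4 * (2 * (q : ℝ))) * (2 * q) := by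
    refine le_trans (mul_le_mul_of_nonneg_left hlow (Nat.cast_nonneg _)) ?_
    rw [hnorm]
    refine mul_le_mul ?_ (by exact_mod_cast hAle) (Nat.cast_nonneg _) (by positivity)
    exact_mod_cast hcount.trans (Nat.mul_le_mul_left 4 hAle)
  rw [hG, Nat.cast_mul, Nat.cast_mul, Nat.cast_add, Nat.cast_pow, Nat.cast_one,
    Nat.cast_sub (by omega), Nat.cast_one] at h1
  have h2 : (q : ℝ) ^ 2 * ((q : ℝ) ^ 2 + 1) * ((q : ℝ) - 1) * (1 / q) =
      q * ((q : ℝ) ^ 2 + 1) * ((q : ℝ) - 1) := by field_simp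
  rw [h2] at h1
  nlinarith [mul_le_mul hqR (show (7 : ℝ) ≤ (q : ℝ) - 1 by linarith) (by norm_num) (by linarith)]

end CfsgLib.SzBinary
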