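import Cfsg.Agent.Lib.SuzukiBinary.Generic
import Cfsg.Agent.Lib.SuzukiBinary.Product
import Cfsg.Agent.Lib.SuzukiSub.Main

/-!
Facts on a Suzuki group for the study of its binary coset actions.
-/

set_option autoImplicit false
set_option linter.unusedSectionVars false

namespace CfsgLib.SzBinary

open CfsgLib.Suzuki CfsgLib.PSL2Sub.Binary

section Groups

variable {G : Type*} [Group G] [Finite G]

/-- An element normalising `T` and centralised only by `1` in `T` is conjugate to its coset. -/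
theorem twist_surj {T : Subgroup G} {d : G} (hn : ∀ u ∈ T, d * u * d⁻¹ ∈ T)
    (hc : ∀ u ∈ T, u * d = d * u → u = 1) {t : G} (ht : t ∈ T) :
    ∃ u ∈ T, u * d * u⁻¹ = t * d := by
  let f : T → T := fun u => ⟨(u : G) * (d * (u : G)⁻¹ * d⁻¹), mul_mem u.2 (hn _ (inv_mem u.2))⟩
  have hf : Function.Injective f := by
    intro u v e
    have e' : (u : G) * (d * (u : G)⁻¹ * d⁻¹) = (v : G) * (d * (v : G)⁻¹ * d⁻¹) :=
      congrArg Subtype.val e
    have e2 : (u : G) * d * (u : G)⁻¹ = (v : G) * d * (v : G)⁻¹ := by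
      calc (u : G) * d * (u : G)⁻¹ = (u : G) * (d * (u : G)⁻¹ * d⁻¹) * d := by group
        _ = (v : G) * (d * (v : G)⁻¹ * d⁻¹) * d := by rw [e']
        _ = _ := by group
    have h1 := hc _ (mul_mem (inv_mem v.2) u.2) (by
      calc (v : G)⁻¹ * u * d = (v : G)⁻¹ * ((u : G) * d * (u : G)⁻¹) * u := by group
        _ = _ := by rw [e2]; group)
    exact Subtype.ext (inv_mul_eq_one.1 h1).symm
  obtain ⟨u, hu⟩ := (Finite.injective_iff_surjective.1 hf) ⟨t, ht⟩
  refine ⟨u, u.2, ?_⟩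
  calc (u : G) * d * (u : G)⁻¹ = (u : G) * (d * (u : G)⁻¹ * d⁻¹) * d := by group
    _ = t * d := by rw [show (u : G) * (d * (u : G)⁻¹ * d⁻¹) = t from congrArg Subtype.val hu]

/-- The gadget behind every non-binary case. -/
theorem false_of_pair {H : Subgroup G} (hb : IsBinary H) {a b : G} (hba : b * a ∈ H) (ha : a ∉ H)
    (A B : Set G) (hA : ∀ g ∈ A, g⁻¹ * a * g ∈ H) (hB : ∀ g ∈ B, g⁻¹ * b * g ∈ H)
    (hw : ∀ w : G, (∀ g ∈ A, g⁻¹ * w * g ∈ H) → (∀ g ∈ B, g⁻¹ * w * g ∈ H) → w = 1) : False := by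
  obtain ⟨w, h1, h2, h3⟩ := exists_common_of_binary hb hba A B hA hB
  rw [hw w h1 h2, mul_one, inv_mem_iff] at h3
  exact ha h3

omit [Finite G] in
theorem mem_center_map_iff {P : Subgroup G} {g : G} :
    g ∈ (Subgroup.center P).map P.subtype ↔ g ∈ P ∧ ∀ y ∈ P, y * g = g * y := by
  constructor
  · rintro ⟨z, hz, rfl⟩
    exact ⟨z.2, fun y hy => congrArg Subtype.val (Subgroup.mem_center_iff.1 hz ⟨y, hy⟩)⟩
  · rintro ⟨hg, hc⟩
    exact ⟨⟨g, hg⟩, Subgroup.mem_center_iff.2 fun y => Subtype.ext (hc y y.2), rfl⟩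

end Groups

variable {F : Type*} [Field F] [Fintype F] {m : ℕ}

local notation "Pt" => Projectivization F (Fin 4 → F)
set_option quotPrecheck false in
local notation "G" => ↥(Cfsg.Sz F m)

variable (h : SzHyp F m)
include h

/-- The centre of the translation group. -/
def zGroup : Subgroup (Cfsg.Sz F m) where
  carrier := {g | ∃ b, g = tS h 0 b}
  one_mem' := ⟨0, (tS_zero h).symm⟩
  mul_mem' := by
    rintro _ _ ⟨a, rfl⟩ ⟨b, rfl⟩
    exact ⟨_, SuzukiSub.tS_zero_mul h a b⟩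
  inv_mem' := by
    rintro _ ⟨a, rfl⟩
    exact ⟨a, by rw [tS_inv, mul_zero, add_zero]⟩

theorem mem_zGroup {g : G} : g ∈ zGroup h ↔ ∃ b, g = tS h 0 b := Iff.rfl

theorem zGroup_le : zGroup h ≤ tGroup h := by
  rintro _ ⟨b, rfl⟩
  exact tS_mem_tGroup h 0 b

theorem zGroup_sq {g : G} (hg : g ∈ zGroup h) : g * g = 1 := by
  obtain ⟨b, rfl⟩ := hg
  rw [SuzukiSub.tS_zero_mul, h.add_self, tS_zero]

theorem card_zGroup : Nat.card (zGroup h) = 2 ^ (2 * m + 1) := by
  let f : F → zGroup h := fun b => ⟨tS h 0 b, b, rfl⟩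
  have hf : Function.Bijective f :=
    ⟨fun b c e => (tS_injective h (congrArg Subtype.val e)).2,
      fun ⟨g, b, hb⟩ => ⟨b, Subtype.ext hb.symm⟩⟩
  rw [← Nat.card_congr (Equiv.ofBijective f hf), Nat.card_eq_fintype_card, h.card]

theorem mem_zGroup_of_sq {g : G} (hg : g ∈ tGroup h) (h2 : g * g = 1) : g ∈ zGroup h := by
  obtain ⟨a, b, rfl⟩ := hg
  rw [tS_sq, tS_eq_one] at h2
  refine ⟨b, ?_⟩
  rcases mul_eq_zero.1 h2.2 with e | e
  · rw [sig_eq_zero.1 e]
  · rw [e]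

theorem conj_mem_zGroup {y z : G} (hy : y ∈ borel F m) (hz : z ∈ zGroup h) :
    y * z * y⁻¹ ∈ zGroup h :=
  mem_zGroup_of_sq h (SuzukiSub.borel_normalizes h hy (zGroup_le h hz)) (by
    calc y * z * y⁻¹ * (y * z * y⁻¹) = y * (z * z) * y⁻¹ := by group
      _ = 1 := by rw [zGroup_sq h hz]; group)

/-- The centre of a conjugate of the translation group. -/
theorem center_of_eq {P : Subgroup G} {x : G}
    (hx : P = (tGroup h).map (MulAut.conj x).toMonoidHom) :
    (Subgroup.center P).map P.subtype = (zGroup h).map (MulAut.conj x).toMonoidHom := by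
  ext g
  rw [mem_center_map_iff, mem_conj_iff, hx, mem_conj_iff]
  constructor
  · rintro ⟨hg, hc⟩
    obtain ⟨b, hb⟩ := (tS_center_mem h (g := ⟨_, hg⟩)).1 (Subgroup.mem_center_iff.2 fun y =>
      Subtype.ext (by
        have := hc (x * (y : G) * x⁻¹) (by rw [mem_conj_iff]; simpa [mul_assoc] using y.2)
        show (y : G) * (x⁻¹ * g * x) = x⁻¹ * g * x * y
        calc (y : G) * (x⁻¹ * g * x) = x⁻¹ * (x * (y : G) * x⁻¹ * g) * x := by group
          _ = _ := by rw [this]; group))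
    exact ⟨b, hb⟩
  · intro hg
    refine ⟨zGroup_le h hg, fun y hy => ?_⟩
    rw [mem_conj_iff] at hy
    obtain ⟨b, hb⟩ := hg
    obtain ⟨a, c, hy⟩ := hy
    have := SuzukiSub.tS_central h a c b
    rw [← hy, ← hb] at this
    calc y * g = x * (x⁻¹ * y * x * (x⁻¹ * g * x)) * x⁻¹ := by group
      _ = _ := by rw [this]; group

/-- The centre of a Sylow 2-subgroup. -/
theorem center_sylow (P : Sylow 2 G) :
    ∃ x : G, (Subgroup.center (P : Subgroup G)).map (P : Subgroup G).subtype =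
      (zGroup h).map (MulAut.conj x).toMonoidHom := by
  obtain ⟨x, hx⟩ := exists_map_tGroup h P
  exact ⟨x, center_of_eq h hx⟩

/-- Conjugates of the centre are subgroups with binary action. -/
theorem isBinary_zGroup : IsBinary (zGroup h) := by
  refine isBinary_of_ti (fun x hx => zGroup_sq h hx) ?_
  intro a b c d ha hb ha1 hb1 hab x hx
  have ha' : c⁻¹ * a * c ≠ 1 := fun e => ha1 (by
    calc a = c * (c⁻¹ * a * c) * c⁻¹ := by group
      _ = 1 := by rw [e]; group)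
  have hb' : c⁻¹ * b * c ≠ 1 := fun e => hb1 (by
    calc b = c * (c⁻¹ * b * c) * c⁻¹ := by group
      _ = 1 := by rw [e]; group)
  have hbT : c⁻¹ * b * c ∈ tGroup h := centralizer_tS h (zGroup_le h ha) ha' (by
    calc c⁻¹ * a * c * (c⁻¹ * b * c) = c⁻¹ * (a * b) * c := by group
      _ = _ := by rw [hab]; group)
  have hy : (c⁻¹ * d)⁻¹ ∈ borel F m := SuzukiSub.mem_borel_of_conj h hbT hb' (by
    rw [inv_inv, show (c⁻¹ * d)⁻¹ * (c⁻¹ * b * c) * (c⁻¹ * d) = d⁻¹ * b * d by group]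
    exact zGroup_le h hb)
  have := conj_mem_zGroup h hy hx
  rwa [inv_inv, show (c⁻¹ * d)⁻¹ * (c⁻¹ * x * c) * (c⁻¹ * d) = d⁻¹ * x * d by group] at this

/-- The two classes of elements of order four. -/
theorem class_four {g : G} (hg : orderOf g = 4) :
    IsConj (tS h 1 0) g ∨ IsConj (tS h 1 0)⁻¹ g := by
  have hg1 : g ≠ 1 := fun e => by rw [e, orderOf_one] at hg; omega
  have hq8 : 8 ≤ 2 ^ (2 * m + 1) := by
    calc 8 = 2 ^ 3 := rfl
      _ ≤ _ := Nat.pow_le_pow_right (by norm_num) (by have := h.one_le; omega)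
  have hH : 2 * 2 ^ m ≤ 2 ^ (2 * m + 1) := by
    rw [← pow_succ']; exact Nat.pow_le_pow_right (by norm_num) (by omega)
  have hev : 2 ∣ 2 ^ (2 * m + 1) := dvd_pow_self 2 (by omega)
  rcases SzChar.element_cases h rfl rfl hg1 with e | e | ⟨e, -⟩ | ⟨e, -⟩ | ⟨e, -⟩
  · exfalso
    obtain ⟨c, hc⟩ := isConj_iff.1 e
    rw [← hc, show c * tS h 0 1 * c⁻¹ = MulAut.conj c (tS h 0 1) from rfl, MulEquiv.orderOf_eq,
      SuzukiSub.orderOf_tS_zero h one_ne_zero] at hg
    omega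
  · exact e
  all_goals
    exfalso
    rw [hg] at e
    omega

theorem isConj_pm_of_four {c g : G} (hc : orderOf c = 4) (hg : orderOf g = 4) :
    ∃ x : G, x⁻¹ * g * x = c ∨ x⁻¹ * g * x = c⁻¹ := by
  have key : ∀ a b : G, IsConj a b → ∀ a' b' : G, IsConj a' b' → a = a' ∨ a = a'⁻¹ →
      ∃ x : G, x⁻¹ * b' * x = b ∨ x⁻¹ * b' * x = b⁻¹ := by
    intro a b hab a' b' hab' hh
    obtain ⟨y, rfl⟩ := isConj_iff.1 hab
    obtain ⟨z, rfl⟩ := isConj_iff.1 hab'
    refine ⟨z * y⁻¹, ?_⟩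
    rcases hh with rfl | rfl
    · left; group
    · right; group
  rcases class_four h hc with h1 | h1 <;> rcases class_four h hg with h2 | h2 <;>
    exact key _ _ h1 _ _ h2 (by first | exact Or.inl rfl | exact Or.inr (inv_inv _).symm | exact Or.inr rfl)

omit h in
theorem exists_ne_one_of_five (h : SzHyp F m) {U : Subgroup G} (hU : IsExcTorus U) :
    ∃ u, u ∈ U ∧ u ≠ 1 := by
  by_contra hc
  push Not at hc
  have := hU.five_le h
  rw [(Subgroup.eq_bot_iff_forall U).2 hc, Subgroup.card_bot] at this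
  omega

/-- Two elements of order four in distinct Sylow subgroups with involution product. -/
theorem exists_four_pair : ∃ a b : G, orderOf a = 4 ∧ orderOf b = 4 ∧ orderOf (b * a) = 2 ∧
    ∀ x : G, x⁻¹ * a * x ∈ tGroup h → x⁻¹ * b * x ∈ tGroup h → False := by
  obtain ⟨U, -, hU, -, -, -, hN, -, -⟩ := tori_main h
  haveI : Fact (Nat.Prime 2) := ⟨Nat.prime_two⟩
  have hUodd : Odd (Nat.card U) := by
    obtain ⟨U₁, U₂, -, -, hk₁, hk₂, -, -, hall⟩ := tori_main h
    refine SuzukiSub.odd_of_torusOrders h.one_le ?_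
    rcases hall U hU with e | e <;> rw [e]
    · exact Or.inr (Or.inl hk₁)
    · exact Or.inr (Or.inr hk₂)
  set N := Subgroup.normalizer (U : Set G) with hNdef
  obtain ⟨P, hP⟩ : ∃ P : Subgroup N, Nat.card P = 2 ^ 2 :=
    Sylow.exists_subgroup_card_pow_prime 2 (show 2 ^ 2 ∣ Nat.card N from hN ▸ dvd_mul_right _ _)
  obtain ⟨u₀, hu₀⟩ := exists_ne_one_of_five h hU
  have cent : ∀ v ∈ U, v ≠ 1 → ∀ g : G, g * v = v * g → g ∈ U := fun v hv hv1 g hg => by
    rw [← hU.centralizer_eq h hv hv1, Subgroup.mem_centralizer_singleton_iff]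
    exact hg
  have hUcomm : ∀ v ∈ U, ∀ v' ∈ U, v * v' = v' * v := fun v hv v' hv' => by
    haveI := hU.isCyclic h
    letI : CommGroup U := IsCyclic.commGroup
    exact congrArg Subtype.val (mul_comm (⟨v, hv⟩ : U) ⟨v', hv'⟩)
  have hne : ∀ g : G, (∃ i, orderOf g = 2 ^ i) → g ∈ U → g = 1 := by
    rintro g ⟨i, hi⟩ hg
    have hd : orderOf g ∣ Nat.card U := Subgroup.orderOf_dvd_natCard U hg
    rw [hi] at hd
    rcases i with _ | i
    · exact orderOf_eq_one_iff.1 (by rw [hi, pow_zero])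
    · exact absurd ((dvd_pow_self 2 i.succ_ne_zero).trans hd) (by
        obtain ⟨j, hj⟩ := hUodd; omega)
  have hnorm : ∀ (p : N), ∀ v ∈ U, (p : G) * v * (p : G)⁻¹ ∈ U := fun p v hv =>
    (Subgroup.mem_normalizer_iff.1 p.2 v).1 hv
  have htwo : ∀ p ∈ P, ∃ i, orderOf ((p : N) : G) = 2 ^ i := fun p hp => by
    obtain ⟨i, hi⟩ := IsPGroup.iff_orderOf.1 (IsPGroup.of_card (p := 2) (n := 2) hP) ⟨p, hp⟩
    exact ⟨i, by rw [← hi]; simp⟩
  have invert : ∀ i : G, i * i = 1 → i ∉ U → (∀ v ∈ U, i * v * i⁻¹ ∈ U) →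
      ∀ v ∈ U, i * v * i⁻¹ = v⁻¹ := by
    intro i hii hiU hin v hv
    by_contra hne'
    have hvi := hin v hv
    have hprod : v * (i * v * i⁻¹) ≠ 1 := fun e => hne' (eq_inv_of_mul_eq_one_right e)
    refine hiU (cent _ (mul_mem hv hvi) hprod i ?_)
    calc i * (v * (i * v * i⁻¹)) = (i * v * i⁻¹) * ((i * i) * v) * ((i * i)⁻¹ * i) := by group
      _ = (i * v * i⁻¹) * v * i := by rw [hii]; group
      _ = _ := by rw [hUcomm _ hvi v hv]
  obtain ⟨p, hpP, hp⟩ : ∃ p ∈ P, (p : G) * (p : G) ≠ 1 := by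
    by_contra hall
    push Not at hall
    obtain ⟨p₁, hp₁, hp1⟩ : ∃ p ∈ P, p ≠ 1 := by
      by_contra hc
      push Not at hc
      rw [(Subgroup.eq_bot_iff_forall P).2 hc, Subgroup.card_bot] at hP
      norm_num at hP
    obtain ⟨p₂, hp₂, hp21, hp22⟩ : ∃ p ∈ P, p ≠ 1 ∧ p ≠ p₁ := by
      by_contra hc
      push Not at hc
      have hle : (P : Set N) ⊆ {1, p₁} := fun p hp => by
        by_cases e : p = 1
        · exact Or.inl e
        · exact Or.inr (hc p hp e)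
      have h2 := Set.ncard_le_ncard hle (Set.toFinite _)
      rw [← Nat.card_coe_set_eq, show Nat.card ((P : Set N) : Type _) = 2 ^ 2 from hP] at h2
      have := Set.ncard_insert_le (1 : N) {p₁}
      rw [Set.ncard_singleton] at this
      omega
    have hnU : ∀ p ∈ P, p ≠ 1 → (p : G) ∉ U := fun p hp h1 hU' =>
      h1 (Subtype.ext (hne _ (htwo p hp) hU'))
    have i1 := invert _ (hall _ hp₁) (hnU _ hp₁ hp1) (hnorm p₁) _ hu₀.1
    have i2 := invert _ (hall _ hp₂) (hnU _ hp₂ hp21) (hnorm p₂) _ hu₀.1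
    have hmem := mul_mem (inv_mem hp₁) hp₂
    have : ((p₁⁻¹ * p₂ : N) : G) ∈ U := cent _ hu₀.1 hu₀.2 _ (by
      rw [Subgroup.coe_mul, Subgroup.coe_inv]
      calc (p₁ : G)⁻¹ * p₂ * u₀ = (p₁ : G)⁻¹ * ((p₂ : G) * u₀ * (p₂ : G)⁻¹) * p₂ := by group
        _ = (p₁ : G)⁻¹ * ((p₁ : G) * u₀ * (p₁ : G)⁻¹) * p₂ := by rw [i1, i2]
        _ = _ := by group)
    exact hp22 (inv_mul_eq_one.1 (Subtype.ext (hne _ (htwo _ hmem) this))).symm
  set f : G := (p : G) with hf
  have hfo : orderOf f = 4 := by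
    have hd : orderOf f ∣ 4 := by
      have e : orderOf f = orderOf (⟨p, hpP⟩ : P) := by simp [hf]
      rw [e]
      exact (orderOf_dvd_natCard _).trans (by rw [hP]; norm_num)
    have := (Nat.dvd_prime_pow Nat.prime_two (m := 2)).1 (show orderOf f ∣ 2 ^ 2 from hd)
    obtain ⟨i, hi2, hi⟩ := this
    interval_cases i
    · refine (hp ?_).elim
      have := pow_orderOf_eq_one f
      rw [hi, pow_zero, pow_one] at this
      rw [this, mul_one]
    · refine (hp ?_).elim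
      have := pow_orderOf_eq_one f
      rwa [hi, pow_one, pow_two] at this
    · simpa using hi
  have hfU : f ∉ U := fun e => by
    rw [hne f ⟨2, hfo⟩ e, orderOf_one] at hfo; omega
  have hf4 : f * f * (f * f) = 1 := by
    have := pow_orderOf_eq_one f
    rw [hfo] at this
    rw [← this]
    simp [pow_succ, mul_assoc]
  have hffU : f * f ∉ U := fun e => hp (hne (f * f) ⟨1, by
    rw [pow_one]
    exact orderOf_eq_prime (by rw [pow_two]; exact hf4) hp⟩ e)
  have hff := invert (f * f) hf4 hffU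
    (fun v hv => by
      have := hnorm p _ (hnorm p v hv)
      rwa [← hf, show f * (f * v * f⁻¹) * f⁻¹ = f * f * v * (f * f)⁻¹ by group] at this) u₀ hu₀.1
  obtain ⟨v, hvU, hv⟩ := twist_surj (T := U) (d := f) (fun v hv => hnorm p v hv)
    (fun v hv hc => by_contra fun h1 => hfU (cent v hv h1 f hc.symm)) (hnorm p u₀ hu₀.1)
  have hb : v * f * v⁻¹ = f * u₀ := by rw [hv, hf]; group
  refine ⟨f, v * f * v⁻¹, hfo, ?_, ?_, ?_⟩
  · rw [show v * f * v⁻¹ = MulAut.conj v f from rfl, MulEquiv.orderOf_eq, hfo]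
  · rw [hb]
    refine orderOf_eq_prime ?_ fun e => ?_
    · rw [pow_two]
      calc f * u₀ * f * (f * u₀ * f) = f * u₀ * (f * f * u₀ * (f * f)⁻¹) * (f * f) * f := by group
        _ = f * u₀ * u₀⁻¹ * (f * f) * f := by rw [hff]
        _ = f * f * (f * f) := by group
        _ = 1 := hf4
    · have e' : u₀ = f⁻¹ * f⁻¹ := by
        calc u₀ = f⁻¹ * (f * u₀ * f) * f⁻¹ := by group
          _ = _ := by rw [e, mul_one]
      refine hffU ?_
      rw [show f * f = u₀⁻¹ by rw [e', _root_.mul_inv_rev, inv_inv]]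
      exact inv_mem hu₀.1
  · intro x h1 h2
    rw [hb] at h2
    have hu : x⁻¹ * u₀ * x ∈ tGroup h := by
      have := mul_mem (inv_mem h1) h2
      rwa [show (x⁻¹ * f * x)⁻¹ * (x⁻¹ * (f * u₀) * x) = x⁻¹ * u₀ * x by group] at this
    exact hu₀.2 (hne u₀ (SuzukiSub.two_pow_conj (SuzukiSub.two_pow_of_mem_tGroup h hu)) hu₀.1)

end CfsgLib.SzBinary
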