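import Cfsg.Agent.Lib.PSL2Sub.Binary.Basic

/-!
Binary coset actions: transport along isomorphisms and trivial-intersection involution subgroups.
-/

set_option autoImplicit false
set_option linter.unusedSectionVars false

namespace CfsgLib.SzBinary

open CfsgLib.PSL2Sub.Binary

variable {G : Type*} [Group G]

theorem mem_conj_iff {H : Subgroup G} {c x : G} :
    x ∈ H.map (MulAut.conj c).toMonoidHom ↔ c⁻¹ * x * c ∈ H := by
  constructor
  · rintro ⟨y, hy, rfl⟩
    simpa [mul_assoc] using hy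
  · intro h
    exact ⟨_, h, by simp [mul_assoc]⟩

/-- Binary actions are transported by isomorphisms. -/
theorem isBinary_map_equiv {G' : Type*} [Group G'] (e : G ≃* G') {H : Subgroup G}
    (hb : IsBinary H) : IsBinary (H.map e.toMonoidHom) := by
  set H' := H.map e.toMonoidHom with hH'
  have hmem : ∀ x, x ∈ H' ↔ e.symm x ∈ H := fun x => by
    rw [hH']
    constructor
    · rintro ⟨y, hy, rfl⟩; simpa using hy
    · intro h; exact ⟨_, h, by simp⟩
  let ψ : G' ⧸ H' → G ⧸ H := Quotient.lift (fun g => (QuotientGroup.mk (e.symm g) : G ⧸ H))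
    fun g g' h => by
      have h' : g⁻¹ * g' ∈ H' := QuotientGroup.leftRel_apply.mp h
      rw [QuotientGroup.eq]
      simpa using (hmem _).mp h'
  have hψ : ∀ g : G', ψ (QuotientGroup.mk g) = QuotientGroup.mk (e.symm g) := fun g => rfl
  have hinj : Function.Injective ψ := by
    intro x y h
    obtain ⟨x, rfl⟩ := QuotientGroup.mk_surjective x
    obtain ⟨y, rfl⟩ := QuotientGroup.mk_surjective y
    rw [hψ, hψ, QuotientGroup.eq] at h
    rw [QuotientGroup.eq, hmem]
    simpa using h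
  have hsmul : ∀ (g : G') x, ψ (g • x) = e.symm g • ψ x := by
    intro g x
    obtain ⟨x, rfl⟩ := QuotientGroup.mk_surjective x
    rw [MulAction.Quotient.smul_mk, hψ, hψ, MulAction.Quotient.smul_mk, smul_eq_mul, smul_eq_mul,
      map_mul]
  intro n I J hn hpair
  obtain ⟨g, hg⟩ := hb n (ψ ∘ I) (ψ ∘ J) hn fun i j hij => by
    obtain ⟨g, h1, h2⟩ := hpair i j hij
    exact ⟨e.symm g, by rw [Function.comp, ← hsmul, h1]; rfl,
      by rw [Function.comp, ← hsmul, h2]; rfl⟩
  exact ⟨e g, fun i => hinj (by rw [hsmul, e.symm_apply_apply]; exact hg i)⟩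

/-- A subgroup of involutions such that commuting conjugates of its involutions share the conjugate
gives a binary action. -/
theorem isBinary_of_ti {H : Subgroup G} (h2 : ∀ x ∈ H, x * x = 1)
    (hti : ∀ a b c d : G, c⁻¹ * a * c ∈ H → d⁻¹ * b * d ∈ H → a ≠ 1 → b ≠ 1 → a * b = b * a →
      ∀ x, c⁻¹ * x * c ∈ H → d⁻¹ * x * d ∈ H) :
    IsBinary H := by
  intro n I J hn hpair
  choose rep hrep using fun i => QuotientGroup.mk_surjective (I i)
  have hfix : ∀ (i : Fin n) (z : G), z • I i = I i ↔ (rep i)⁻¹ * z * rep i ∈ H := fun i z => by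
    rw [← hrep i, smul_self_iff]
  have hsq : ∀ (i : Fin n) (z : G), z • I i = I i → z * z = 1 := by
    intro i z hz
    have := h2 _ ((hfix i z).1 hz)
    calc z * z = rep i * ((rep i)⁻¹ * z * rep i * ((rep i)⁻¹ * z * rep i)) * (rep i)⁻¹ := by group
      _ = 1 := by rw [this]; group
  have hsame : ∀ (i k : Fin n) (a b : G), a • I i = I i → b • I k = I k → a ≠ 1 → b ≠ 1 →
      a * b = b * a → ∀ z, z • I i = I i → z • I k = I k := fun i k a b ha hb ha1 hb1 hab z hz =>
    (hfix k z).2 (hti a b (rep i) (rep k) ((hfix i a).1 ha) ((hfix k b).1 hb) ha1 hb1 hab z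
      ((hfix i z).1 hz))
  by_cases hall : ∀ k : Fin n, ∀ z : G, z • I ⟨0, by omega⟩ = I ⟨0, by omega⟩ → z • I k = I k
  · set i₀ : Fin n := ⟨0, by omega⟩
    set i₁ : Fin n := ⟨1, by omega⟩
    obtain ⟨g, hg0, -⟩ := hpair i₀ i₁ (by simp [i₀, i₁])
    refine ⟨g, fun k => ?_⟩
    by_cases hk : i₀ = k
    · rw [← hk]; exact hg0
    obtain ⟨g', h0, h1⟩ := hpair i₀ k hk
    have hz : (g⁻¹ * g') • I i₀ = I i₀ := by rw [mul_smul, h0, ← hg0, inv_smul_smul]
    have := hall k _ hz
    rw [mul_smul, inv_smul_eq_iff, h1] at this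
    exact this.symm
  · push Not at hall
    obtain ⟨j, z₀, hz0, hzj⟩ := hall
    set i₀ : Fin n := ⟨0, by omega⟩
    have hij : i₀ ≠ j := fun e => hzj (e ▸ hz0)
    obtain ⟨g, hg0, hgj⟩ := hpair i₀ j hij
    refine ⟨g, fun k => ?_⟩
    by_cases hk : i₀ = k
    · rw [← hk]; exact hg0
    by_cases hkj : j = k
    · rw [← hkj]; exact hgj
    obtain ⟨g1, h10, h1k⟩ := hpair i₀ k hk
    obtain ⟨g2, h2j, h2k⟩ := hpair j k hkj
    obtain ⟨z1, rfl⟩ : ∃ z, g1 = g * z := ⟨g⁻¹ * g1, by group⟩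
    obtain ⟨z2, rfl⟩ : ∃ z, g2 = g * z := ⟨g⁻¹ * g2, by group⟩
    rw [mul_smul, ← hg0, smul_left_cancel_iff] at h10
    rw [mul_smul, ← hgj, smul_left_cancel_iff] at h2j
    rw [mul_smul] at h1k h2k
    by_cases hz1 : z1 = 1
    · rwa [hz1, one_smul] at h1k
    by_cases hz2 : z2 = 1
    · rwa [hz2, one_smul] at h2k
    have hk3 : (z1⁻¹ * z2) • I k = I k := by
      rw [mul_smul, inv_smul_eq_iff]
      exact MulAction.injective g (h2k.trans h1k.symm)
    have q1 := hsq _ _ h10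
    have q2 := hsq _ _ h2j
    have q3 := hsq _ _ hk3
    rw [inv_eq_of_mul_eq_one_right q1] at q3
    have hcomm : z1 * z2 = z2 * z1 := by
      calc z1 * z2 = (z1 * z2)⁻¹ := (inv_eq_of_mul_eq_one_right q3).symm
        _ = z2 * z1 := by
          rw [_root_.mul_inv_rev, inv_eq_of_mul_eq_one_right q1, inv_eq_of_mul_eq_one_right q2]
    exact absurd (hsame i₀ j z1 z2 h10 h2j hz1 hz2 hcomm z₀ hz0) hzj

end CfsgLib.SzBinary
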