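import Cfsg.Agent.Lib.SuzukiBinary.Odd

/-!
The subgroups of a Suzuki group whose coset actions are binary.
-/

set_option autoImplicit false
set_option linter.unusedSectionVars false

namespace CfsgLib.SzBinary

open CfsgLib.Suzuki CfsgLib.PSL2Sub.Binary

variable {F : Type*} [Field F] [Fintype F] {m : ℕ}

variable (h : SzHyp F m)
include h

/-- The classification of the binary coset actions. -/
theorem isBinary_iff {H : Subgroup (Cfsg.Sz F m)} (hH : H ≠ ⊤) :
    IsBinary H ↔ H = ⊥ ∨ ∃ P : Sylow 2 (Cfsg.Sz F m),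
      H = (Subgroup.center (P : Subgroup (Cfsg.Sz F m))).map
        (P : Subgroup (Cfsg.Sz F m)).subtype := by
  constructor
  · intro hb
    by_cases hne : H = ⊥
    · exact Or.inl hne
    right
    obtain ⟨i, hiH, hi⟩ : ∃ i ∈ H, orderOf i = 2 := by
      by_contra hcon
      push Not at hcon
      refine false_of_odd h hb hne fun g hg ⟨k, hk⟩ => ?_
      rcases k with _ | k
      · exact orderOf_eq_one_iff.1 (by rw [hk, pow_zero])
      · exfalso
        refine hcon _ (pow_mem hg (2 ^ k)) ?_
        rw [orderOf_pow_of_dvd (by positivity) (hk ▸ ⟨2, pow_succ 2 k⟩), hk,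
          Nat.pow_div (by omega) (by norm_num), show k + 1 - k = 1 by omega, pow_one]
    obtain ⟨x, hx⟩ := eq_conj_zGroup h hb hH hiH hi
    exact ⟨x • tSylow h, by rw [center_of_eq h (P := ((x • tSylow h : Sylow 2 _) : Subgroup _)) (x := x) rfl, hx]⟩
  · rintro (rfl | ⟨P, rfl⟩)
    · exact isBinary_bot
    · obtain ⟨x, hx⟩ := center_sylow h P
      rw [hx]
      exact isBinary_map_conj (isBinary_zGroup h) x

end CfsgLib.SzBinary
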