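import Cfsg.Agent.Lib.SuzukiBinary.Even

/-!
Binary coset actions of a Suzuki group with stabiliser of odd order.
-/

set_option autoImplicit false
set_option linter.unusedSectionVars false

namespace CfsgLib.SzBinary

open CfsgLib.Suzuki CfsgLib.PSL2Sub.Binary

variable {F : Type*} [Field F] [Fintype F] {m : ℕ}

local notation "Pt" => Projectivization F (Fin 4 → F)
set_option quotPrecheck false in
local notation "G" => ↥(Cfsg.Sz F m)

variable (h : SzHyp F m)
include h

/-- A subgroup of odd order is abelian. -/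
theorem comm_of_odd {H : Subgroup G} (hodd : ∀ g ∈ H, (∃ i, orderOf g = 2 ^ i) → g = 1) :
    ∀ g ∈ H, ∀ g' ∈ H, g * g' = g' * g := by
  haveI := Fact.mk Nat.prime_two
  have hs : Group.IsSolvable H := SuzukiSub.isSolvable_of_cyclic_two h H fun P => by
    haveI : Subsingleton P := ⟨fun p p' => by
      have one : ∀ p : P, p = 1 := fun p => by
        obtain ⟨i, hi⟩ := IsPGroup.iff_orderOf.1 P.2 p
        exact Subtype.ext (Subtype.ext (hodd _ (p : H).2 ⟨i, by
          rw [Subgroup.orderOf_coe, Subgroup.orderOf_coe, hi]⟩))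
      rw [one p, one p']⟩
    exact isCyclic_of_subsingleton
  rcases SuzukiSub.solvable_cases h H hs with ⟨P, hP⟩ | ⟨U, hUc, hUo, hU⟩
  · obtain ⟨x, hx⟩ := exists_map_tGroup h P
    rw [hx, map_conj_normalizer, normalizer_tGroup h] at hP
    intro g hg g' hg'
    let b : borel F m := ⟨x⁻¹ * g * x, mem_map_conj.1 (hP hg)⟩
    let b' : borel F m := ⟨x⁻¹ * g' * x, mem_map_conj.1 (hP hg')⟩
    have hchar : borelChar h (b * b' * b⁻¹ * b'⁻¹) = 1 := by
      rw [show borelChar h (b * b' * b⁻¹ * b'⁻¹) =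
        borelChar h (b * b⁻¹) * borelChar h (b' * b'⁻¹) by simp only [map_mul]; ring,
        mul_inv_cancel, mul_inv_cancel, map_one, one_mul]
    have hT := borelChar_eq_one h hchar
    have hval : ((b * b' * b⁻¹ * b'⁻¹ : borel F m) : G) = x⁻¹ * (g * g' * g⁻¹ * g'⁻¹) * x := by
      simp only [Subgroup.coe_mul, Subgroup.coe_inv, b, b']
      group
    rw [hval] at hT
    have h1 := hodd _ (mul_mem (mul_mem (mul_mem hg hg') (inv_mem hg)) (inv_mem hg'))
      (SuzukiSub.two_pow_conj (SuzukiSub.two_pow_of_mem_tGroup h hT))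
    calc g * g' = g * g' * g⁻¹ * g'⁻¹ * (g' * g) := by group
      _ = _ := by rw [h1, one_mul]
  · have hle : H ≤ U := by
      intro g hg
      set N := Subgroup.normalizer (U : Set G) with hN
      haveI : (U.subgroupOf N).Normal := Subgroup.normal_in_normalizer
      have h1 := Subgroup.pow_index_mem (U.subgroupOf N) ⟨g, hU hg⟩
      rw [Subgroup.mem_subgroupOf] at h1
      have hidx : (U.subgroupOf N).index ∣ 4 := (SuzukiSub.relIndex_normalizer h hUc hUo).1
      obtain ⟨c, hc⟩ := hidx
      have h4 : g ^ 4 ∈ U := by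
        have := pow_mem (show g ^ (U.subgroupOf N).index ∈ U by simpa using h1) c
        rw [← pow_mul, ← hc] at this
        exact this
      have hgo : Odd (orderOf g) := by
        rw [Nat.odd_iff]
        by_contra he
        have h2 : 2 ∣ orderOf g := by omega
        obtain ⟨e, he'⟩ := h2
        have hpos := orderOf_pos g
        have hoe : orderOf (g ^ e) = 2 := by
          rw [orderOf_pow_of_dvd (by omega) ⟨2, by rw [he', mul_comm]⟩, he', Nat.mul_div_cancel _ (by omega)]
        have := hodd _ (pow_mem hg e) ⟨1, by rw [hoe, pow_one]⟩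
        rw [this, orderOf_one] at hoe
        omega
      obtain ⟨d, hd⟩ := exists_pow_eq_self_of_coprime
        (show Nat.Coprime 4 (orderOf g) from Nat.Coprime.pow_left 2 (Nat.coprime_two_left.2 hgo))
      exact hd ▸ pow_mem h4 d
    haveI := hUc
    letI : CommGroup U := IsCyclic.commGroup
    exact fun g hg g' hg' =>
      congrArg Subtype.val (mul_comm (⟨g, hle hg⟩ : U) ⟨g', hle hg'⟩)

/-- No binary action with a non-trivial stabiliser of odd order. -/
theorem false_of_odd {H : Subgroup G} (hb : IsBinary H) (hne : H ≠ ⊥)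
    (hodd : ∀ g ∈ H, (∃ i, orderOf g = 2 ^ i) → g = 1) : False := by
  obtain ⟨c, hc, hc1⟩ : ∃ c ∈ H, c ≠ 1 := by
    by_contra hcon
    push Not at hcon
    exact hne ((Subgroup.eq_bot_iff_forall H).2 hcon)
  have hnot : ¬ ∃ i, orderOf c = 2 ^ i := fun e => hc1 (hodd c hc e)
  obtain ⟨A, hA, hAc, hAo, hAti⟩ := SuzukiSub.cent_of_not_two h hnot
  have hHA : H ≤ A := fun g hg => by
    rw [← hA, Subgroup.mem_centralizer_singleton_iff]
    exact comm_of_odd h hodd g hg c hc
  obtain ⟨u, v, huv, hvA⟩ := exists_product_outside h hc1 hnot hA hAc hAo hAti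
  refine false_of_pair hb (a := v * c * v⁻¹) (b := u * c * u⁻¹) (huv ▸ hc) (fun e => hvA (hHA e))
    {v} {u} ?_ ?_ ?_
  · rintro g e
    rw [Set.mem_singleton_iff.1 e, show v⁻¹ * (v * c * v⁻¹) * v = c by group]
    exact hc
  · rintro g e
    rw [Set.mem_singleton_iff.1 e, show u⁻¹ * (u * c * u⁻¹) * u = c by group]
    exact hc
  intro w h1 h2
  by_contra hw1
  have comm : ∀ z : G, z⁻¹ * w * z ∈ H → w * (z * c * z⁻¹) = z * c * z⁻¹ * w := fun z hz => by
    have hcz := comm_of_odd h hodd _ hz c hc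
    calc w * (z * c * z⁻¹) = z * (z⁻¹ * w * z * c) * z⁻¹ := by group
      _ = _ := by rw [hcz]; group
  have ha := comm v (h1 v rfl)
  have hb' := comm u (h2 u rfl)
  have hwc : w * c = c * w := by
    rw [huv]
    calc w * (u * c * u⁻¹ * (v * c * v⁻¹)) = w * (u * c * u⁻¹) * (v * c * v⁻¹) := by group
      _ = u * c * u⁻¹ * w * (v * c * v⁻¹) := by rw [hb']
      _ = u * c * u⁻¹ * (w * (v * c * v⁻¹)) := by group
      _ = _ := by rw [ha]; group
  have hwA : w ∈ A := by
    rw [← hA, Subgroup.mem_centralizer_singleton_iff]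
    exact hwc
  refine hvA ?_
  rw [← hAti w hwA hw1, Subgroup.mem_centralizer_singleton_iff]
  exact ha.symm

end CfsgLib.SzBinary
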